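import Groth.Agent.H66.Trigon2
import Groth.Agent.Lib.Hopf.FaithfullyFlat
import Mathlib.RingTheory.Flat.FaithfullyFlat.Algebra
import Mathlib.GroupTheory.Finiteness

/-!
# The group-like elements of a finitely generated commutative Hopf algebra form a finitely generated group
-/

set_option autoImplicit false
set_option linter.style.haveILetI false
universe u

open TensorProduct Coalgebra

namespace Groth.Agent.Lib.CharExt76

/-- A group whose group algebra is Noetherian is finitely generated. -/
theorem fg_of_isNoetherianRing (k : Type u) [Field k] (Γ : Type u) [CommGroup Γ]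
    [IsNoetherianRing (MonoidAlgebra k Γ)] : Group.FG Γ := by
  classical
  let I : Finset Γ → Ideal (MonoidAlgebra k Γ) := fun s =>
    Ideal.span ((fun g => MonoidAlgebra.single g (1 : k) - 1) '' (s : Set Γ))
  obtain ⟨J, ⟨s, rfl⟩, hmax⟩ :=
    set_has_maximal_iff_noetherian.2 ‹IsNoetherianRing (MonoidAlgebra k Γ)› (Set.range I) ⟨_, ∅, rfl⟩
  refine Group.fg_iff.2 ⟨s, ?_, s.finite_toSet⟩
  refine (Subgroup.eq_top_iff' _).2 fun g => ?_
  have hle : I s ≤ I (insert g s) := Ideal.span_mono (Set.image_mono (by simp))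
  have hg : MonoidAlgebra.single g (1 : k) - 1 ∈ I s := by
    have heq : I s = I (insert g s) := eq_of_le_of_not_lt hle (hmax _ ⟨insert g s, rfl⟩)
    rw [heq]
    exact Ideal.subset_span ⟨g, by simp, rfl⟩
  let N := Subgroup.closure (s : Set Γ)
  let φ : MonoidAlgebra k Γ →+* MonoidAlgebra k (Γ ⧸ N) := MonoidAlgebra.mapDomainRingHom k (QuotientGroup.mk' N)
  have hφ : ∀ x : Γ, φ (MonoidAlgebra.single x 1 - 1) = MonoidAlgebra.single (x : Γ ⧸ N) 1 - 1 := fun x => by
    rw [map_sub, map_one]
    simp [φ]
  have hker : I s ≤ RingHom.ker φ := Ideal.span_le.2 (by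
    rintro _ ⟨x, hx, rfl⟩
    show φ _ = 0
    rw [hφ, (QuotientGroup.eq_one_iff x).2 (Subgroup.subset_closure hx), MonoidAlgebra.one_def, sub_self])
  have h := hker hg
  rw [RingHom.mem_ker, hφ, sub_eq_zero, MonoidAlgebra.one_def] at h
  have h' := (Finsupp.single_left_inj (one_ne_zero (α := k))).1 (congrArg MonoidAlgebra.coeff h)
  exact (QuotientGroup.eq_one_iff g).1 h'

theorem fg_groupLike (k : Type u) [Field k] (A : Type u) [CommRing A] [HopfAlgebra k A] [Algebra.FiniteType k A] :
    Group.FG (GroupLike k A) := by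
  classical
  let c := (H66.Trigon2.charMap k A : MonoidAlgebra k (GroupLike k A) →ₐ[k] A)
  have hc : ∀ g : GroupLike k A, c (MonoidAlgebra.single g 1) = g.1 := H66.Trigon2.charMap_single
  let B := c.range
  have hmem : ∀ g : GroupLike k A, g.1 ∈ B := fun g => ⟨_, hc g⟩
  have hB : SGA3.IsHopfSubalgebra k A B := by
    refine ⟨fun b hb => ?_, fun b hb => ?_⟩
    · obtain ⟨x, rfl⟩ := hb
      change comul (R := k) (c x) ∈ _
      induction x using MonoidAlgebra.induction_linear with
      | zero => simp
      | add p q hp hq => simp only [map_add]; exact add_mem hp hq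
      | single g r =>
        rw [← mul_one r, ← smul_eq_mul, ← MonoidAlgebra.smul_single, map_smul, map_smul, hc,
          g.isGroupLikeElem_val.comul_eq_tmul_self]
        exact Submodule.smul_mem _ r ⟨⟨g.1, hmem g⟩ ⊗ₜ[k] ⟨g.1, hmem g⟩, rfl⟩
    · obtain ⟨x, rfl⟩ := hb
      change HopfAlgebraStruct.antipode (R := k) (c x) ∈ B
      induction x using MonoidAlgebra.induction_linear with
      | zero => simp
      | add p q hp hq => simp only [map_add]; exact add_mem hp hq
      | single g r =>
        rw [← mul_one r, ← smul_eq_mul, ← MonoidAlgebra.smul_single, map_smul, map_smul, hc]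
        exact B.smul_mem (hmem ⟨_, g.isGroupLikeElem_val.antipode⟩) r
  haveI : Module.FaithfullyFlat B A := Hopf.FaithfullyFlat.faithfullyFlat hB
  haveI : IsNoetherianRing A := Algebra.FiniteType.isNoetherianRing k A
  haveI : IsNoetherianRing B := by
    refine isNoetherianRing_iff.2 (isNoetherian_iff'.2 ?_)
    exact OrderEmbedding.wellFoundedGT ⟨⟨Ideal.map (algebraMap B A),
      fun I J h => by rw [← Ideal.comap_map_eq_self_of_faithfullyFlat (B := A) I, h,
        Ideal.comap_map_eq_self_of_faithfullyFlat]⟩, fun {I J} => ⟨fun h => by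
          rw [← Ideal.comap_map_eq_self_of_faithfullyFlat (B := A) I,
            ← Ideal.comap_map_eq_self_of_faithfullyFlat (B := A) J]
          exact Ideal.comap_mono h, Ideal.map_mono⟩⟩
  haveI : IsNoetherianRing (MonoidAlgebra k (GroupLike k A)) :=
    isNoetherianRing_of_ringEquiv B (AlgEquiv.ofInjective c H66.Trigon2.injective_charMap).symm.toRingEquiv
  exact fg_of_isNoetherianRing k _

end Groth.Agent.Lib.CharExt76
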